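import Groth.Agent.Lib.KS17.Finite
import Groth.Agent.Lib.VB17.Fitting
import Groth.Agent.Lib.VB17.Proper
import Groth.Agent.Lib.TensorMod.Invertible

/-!
# Bundles on curves: decomposition and finiteness of Weil type
-/

set_option autoImplicit false
set_option linter.style.haveILetI false

universe u

open CategoryTheory CategoryTheory.Limits AlgebraicGeometry

namespace Groth.Agent.KS17

open Groth.Agent Groth.Agent.M1 Groth.Agent.M2 Groth.Agent.VB17 Groth.Agent.CurveCoh17

variable {k : Type u} [Field k] {X : Scheme.{u}} [X.Over (Spec (CommRingCat.of k))]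

/-- Two finite sums make one over the sum of the index types. -/
noncomputable def biprodBiproductIso {C : Type*} [Category C] [Preadditive C] [HasFiniteBiproducts C]
    [HasBinaryBiproducts C] {α β : Type} [Finite α] [Finite β] (K : α ⊕ β → C) :
    (⨁ fun i => K (Sum.inl i)) ⊞ (⨁ fun i => K (Sum.inr i)) ≅ ⨁ K where
  hom := biprod.desc (biproduct.desc fun i => biproduct.ι K (Sum.inl i))
    (biproduct.desc fun i => biproduct.ι K (Sum.inr i))
  inv := biproduct.desc fun
    | Sum.inl i => biproduct.ι (fun i => K (Sum.inl i)) i ≫ biprod.inl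
    | Sum.inr i => biproduct.ι (fun i => K (Sum.inr i)) i ≫ biprod.inr
  hom_inv_id := by
    refine biprod.hom_ext' _ _ ?_ ?_ <;> refine biproduct.hom_ext' _ _ fun i => ?_ <;> simp
  inv_hom_id := by
    refine biproduct.hom_ext' _ _ fun s => ?_
    rcases s with i | i <;> simp

/-- Powers of a bundle are bundles. -/
theorem isFinLocFreeOfRank_tensorPow {r : ℕ} {E : X.Modules} (hE : FlatMod.IsFinLocFreeOfRank r E) :
    ∀ n, FlatMod.IsFinLocFreeOfRank (r ^ n) (CohB1.tensorPow E n)
  | 0 => by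
    rw [pow_zero]
    exact (isInvertible_iff_isFinLocFreeOfRank_one _).1 (PicLoc.isInvertible_structureModule X)
  | n + 1 => by
    rw [pow_succ]
    exact isFinLocFreeOfRank_tensor (isFinLocFreeOfRank_tensorPow hE n) hE

/-- An indecomposable bundle has a local endomorphism ring. -/
theorem le'_of_indecomposable (hX : RegCurve k X) {r : ℕ} {E : X.Modules} (hE : FlatMod.IsFinLocFreeOfRank r E)
    (hne : ¬ IsZero E) (hind : ∀ A B : X.Modules, Nonempty (E ≅ A ⊞ B) → IsZero A ∨ IsZero B) : LE' E := by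
  haveI : Nontrivial (End E) := ⟨⟨1, 0, fun h => hne ((IsZero.iff_id_eq_zero E).2 h)⟩⟩
  refine IsLocalRing.of_isUnit_or_isUnit_one_sub_self fun a => ?_
  rcases isIso_or_nilpotent hX hE hind a with h | h
  · exact Or.inl ((isUnit_iff_isIso a).2 h)
  · exact Or.inr h.isUnit_one_sub

/-- A direct summand of a bundle is a bundle of no larger rank. -/
theorem exists_rank_summand (hX : RegCurve k X) {r : ℕ} {E A B : X.Modules} (hE : FlatMod.IsFinLocFreeOfRank r E)
    (e : E ≅ A ⊞ B) : ∃ a, FlatMod.IsFinLocFreeOfRank a A := by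
  haveI := hX.integral
  haveI := hX.like.noetherian
  have hcoh := isCoh_of_ofRank hE
  let g : E ⟶ E := e.hom ≫ biprod.snd ≫ biprod.inr ≫ e.inv
  have h0 : g ≫ e.hom ≫ biprod.fst = 0 := by simp [g]
  let α : cokernel g ≅ A :=
    { hom := cokernel.desc g (e.hom ≫ biprod.fst) h0
      inv := biprod.inl ≫ e.inv ≫ cokernel.π g
      hom_inv_id := by
        rw [← cancel_epi (cokernel.π g), cokernel.π_desc_assoc, Category.comp_id]
        have ht : biprod.fst ≫ (biprod.inl : A ⟶ A ⊞ B) = 𝟙 _ - biprod.snd ≫ biprod.inr :=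
          eq_sub_of_add_eq biprod.total
        calc (e.hom ≫ biprod.fst) ≫ biprod.inl ≫ e.inv ≫ cokernel.π g
            = e.hom ≫ (biprod.fst ≫ biprod.inl) ≫ e.inv ≫ cokernel.π g := by simp only [Category.assoc]
          _ = (e.hom ≫ e.inv) ≫ cokernel.π g - g ≫ cokernel.π g := by
              rw [ht, Preadditive.sub_comp, Category.id_comp, Preadditive.comp_sub]
              simp only [g, Category.assoc]
          _ = cokernel.π g := by rw [cokernel.condition, sub_zero, Iso.hom_inv_id, Category.id_comp]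
      inv_hom_id := by simp }
  haveI : Mono (biprod.inl : A ⟶ A ⊞ B) := inferInstance
  haveI : IsIso α.hom := ⟨α.inv, α.hom_inv_id, α.inv_hom_id⟩
  haveI : Mono α.hom := IsSplitMono.mono _
  haveI : Mono (α.hom ≫ biprod.inl ≫ e.inv) := mono_comp _ _
  obtain ⟨a, -, ha⟩ := exists_rank_of_mono hX.pid hE (M1.isCoh_cokernel hcoh.1 hcoh g)
    (α.hom ≫ biprod.inl ≫ e.inv)
  exact ⟨a, isFinLocFreeOfRank_of_iso α ha⟩

/-- Bundles on a regular curve are finite sums of bundles with local endomorphism rings. -/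
theorem dec_bundle (hX : RegCurve k X) : ∀ (r : ℕ) (E : X.Modules), FlatMod.IsFinLocFreeOfRank r E → Dec E := by
  haveI := hX.integral
  intro r
  induction r using Nat.strong_induction_on with
  | _ r ih =>
    intro E hE
    by_cases hz : IsZero E
    · refine ⟨0, Fin.elim0, fun i => i.elim0, ⟨hz.iso ?_⟩⟩
      rw [IsZero.iff_id_eq_zero]
      exact biproduct.hom_ext _ _ fun i => i.elim0
    by_cases hind : ∀ A B : X.Modules, Nonempty (E ≅ A ⊞ B) → IsZero A ∨ IsZero B
    · refine ⟨1, fun _ => E, fun _ => le'_of_indecomposable hX hE hz hind, ⟨?_⟩⟩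
      exact (biproductUniqueIso fun _ : Fin 1 => E).symm
    push Not at hind
    obtain ⟨A, B, ⟨e⟩, hA, hB⟩ := hind
    obtain ⟨a, ha⟩ := exists_rank_summand hX hE e
    obtain ⟨b, hb⟩ := exists_rank_summand hX hE (e ≪≫ biprod.braiding A B)
    have hsum : r = a + b := rank_add (ShortComplex.Splitting.ofHasBinaryBiproduct A B).shortExact ha
      (isFinLocFreeOfRank_of_iso e hE) hb
    have ha0 : a ≠ 0 := fun h => hA (isZero_of_rank_zero (h ▸ ha))
    have hb0 : b ≠ 0 := fun h => hB (isZero_of_rank_zero (h ▸ hb))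
    obtain ⟨n, N, hN, ⟨φ⟩⟩ := ih a (by omega) A ha
    obtain ⟨m, M, hM, ⟨ψ⟩⟩ := ih b (by omega) B hb
    let NM : Fin n ⊕ Fin m → X.Modules := Sum.elim N M
    refine ⟨n + m, fun i => NM (finSumFinEquiv.symm i), fun i => ?_, ⟨?_⟩⟩
    · show LE' (NM _)
      rcases finSumFinEquiv.symm i with j | j
      exacts [hN j, hM j]
    · refine e ≪≫ biprod.mapIso φ ψ ≪≫ ?_ ≪≫
        biproduct.whiskerEquiv finSumFinEquiv fun i => eqToIso (congrArg NM (finSumFinEquiv.symm_apply_apply i))
      exact biprodBiproductIso NM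

/-- A retract of a bundle is a bundle. -/
theorem exists_rank_retract (hX : RegCurve k X) {r : ℕ} {E A : X.Modules} (hE : FlatMod.IsFinLocFreeOfRank r E)
    (h : Retr A E) : ∃ a, FlatMod.IsFinLocFreeOfRank a A := by
  haveI := hX.integral
  haveI := hX.like.noetherian
  obtain ⟨s, t, e⟩ := h
  let p : E ⟶ E := 𝟙 E - t ≫ s
  have h0 : p ≫ t = 0 := by simp [p, e]
  let α : cokernel p ≅ A :=
    { hom := cokernel.desc p t h0
      inv := s ≫ cokernel.π p
      hom_inv_id := by
        rw [← cancel_epi (cokernel.π p), cokernel.π_desc_assoc, Category.comp_id, ← Category.assoc,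
          show t ≫ s = 𝟙 E - p by simp [p], Preadditive.sub_comp, cokernel.condition, sub_zero, Category.id_comp]
      inv_hom_id := by simp [e] }
  haveI : IsIso α.hom := ⟨α.inv, α.hom_inv_id, α.inv_hom_id⟩
  haveI : IsSplitMono s := ⟨⟨t, e⟩⟩
  haveI : Mono α.hom := IsSplitMono.mono _
  haveI : Mono (α.hom ≫ s) := mono_comp _ _
  obtain ⟨a, -, ha⟩ := exists_rank_of_mono hX.pid hE
    (M1.isCoh_cokernel (isCoh_of_ofRank hE).1 (isCoh_of_ofRank hE) p) (α.hom ≫ s)
  exact ⟨a, isFinLocFreeOfRank_of_iso α ha⟩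

theorem dec_tensorPow (hX : RegCurve k X) {r : ℕ} {E : X.Modules} (hE : FlatMod.IsFinLocFreeOfRank r E) (n : ℕ) :
    Dec (CohB1.tensorPow E n) :=
  dec_bundle hX _ _ (isFinLocFreeOfRank_tensorPow hE n)

/-- Weil finiteness is having finitely many kinds of summands in all powers. -/
theorem wf_iff_finType (hX : RegCurve k X) {r : ℕ} {E : X.Modules} (hE : FlatMod.IsFinLocFreeOfRank r E) :
    WF (fun n => CohB1.tensorPow E n) ↔ FinType (fun n => CohB1.tensorPow E n) :=
  ⟨fun h => h.finType (dec_tensorPow hX hE) (tensorR E) (fun _ => ⟨Iso.refl _⟩),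
    fun h => h.wf (dec_tensorPow hX hE)⟩

/-- A finite list of objects absorbing all summands gives finite type. -/
theorem finType_of_cover {C : Type*} [Category C] [Preadditive C] [HasFiniteBiproducts C] {T : ℕ → C}
    {ι : Type} [Finite ι] (Y : ι → C) (hY : ∀ i, Dec (Y i))
    (h : ∀ n M, LE' M → Retr M (T n) → ∃ i, Retr M (Y i)) : FinType T := by
  cases nonempty_fintype ι
  choose n N hN e using hY
  let S := Σ i, Fin (n i)
  refine ⟨Fintype.card S, fun q => N ((Fintype.equivFin S).symm q).1 ((Fintype.equivFin S).symm q).2, fun m M hM hr => ?_⟩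
  obtain ⟨i, hi⟩ := h m M hM hr
  obtain ⟨β⟩ := e i
  obtain ⟨j, hj⟩ := pos_of_retr hM (hN i) β hi
  refine ⟨Fintype.equivFin S ⟨i, j⟩, ?_⟩
  dsimp only
  rw [Equiv.symm_apply_apply]
  exact hj.map Iso.symm

end Groth.Agent.KS17
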