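import Mathlib.CategoryTheory.Preadditive.Biproducts
import Mathlib.LinearAlgebra.Matrix.InvariantBasisNumber
import Mathlib.RingTheory.LocalRing.Basic
import Mathlib.RingTheory.Congruence.Basic
import Mathlib.RingTheory.FiniteLength
import Mathlib.Algebra.Field.Basic

/-!
# Summands with local endomorphism rings
-/

set_option autoImplicit false
set_option linter.style.haveILetI false

universe v w

open CategoryTheory CategoryTheory.Limits

namespace Groth.Agent.KS17

variable {C : Type w} [Category.{v} C] [Preadditive C] [HasFiniteBiproducts C]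

/-- `M` is a retract of `X`. -/
def Retr (M X : C) : Prop := ∃ (s : M ⟶ X) (r : X ⟶ M), s ≫ r = 𝟙 M

/-- The endomorphism ring of `M` is local. -/
def LE' (M : C) : Prop := IsLocalRing (End M)

omit [HasFiniteBiproducts C]

theorem Retr.of_iso {M X : C} (e : M ≅ X) : Retr M X := ⟨e.hom, e.inv, e.hom_inv_id⟩

theorem Retr.trans {M X Y : C} (h : Retr M X) (h' : Retr X Y) : Retr M Y := by
  obtain ⟨s, r, e⟩ := h
  obtain ⟨s', r', e'⟩ := h'
  exact ⟨s ≫ s', r' ≫ r, by rw [Category.assoc, reassoc_of% e', e]⟩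

theorem Retr.map {D : Type*} [Category D] (F : C ⥤ D) [Preadditive D] {M X : C} (h : Retr M X) :
    Retr (F.obj M) (F.obj X) := by
  obtain ⟨s, r, e⟩ := h
  exact ⟨F.map s, F.map r, by rw [← F.map_comp, e, F.map_id]⟩

theorem isUnit_of_mul {M : C} (hM : LE' M) {a b : End M} (h : IsUnit (a * b)) : IsUnit a ∧ IsUnit b := by
  haveI : IsLocalRing (End M) := hM
  obtain ⟨u, hu⟩ := h
  let c : End M := b * ↑u⁻¹
  have hac : a * c = 1 := by rw [← mul_assoc, ← hu]; exact u.mul_inv
  have ha : IsUnit a := by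
    rcases IsLocalRing.isUnit_or_isUnit_of_add_one (add_sub_cancel (c * a) 1) with h1 | h1
    · obtain ⟨v, hv⟩ := h1
      have hv1 : (c * a) * (c * a) = c * a := by rw [mul_assoc, ← mul_assoc a, hac, one_mul]
      have : c * a = 1 := by
        exact IsUnit.mul_left_cancel ⟨v, hv⟩ (hv1.trans (mul_one _).symm)
      exact ⟨⟨a, c, hac, this⟩, rfl⟩
    · have h2 : (1 - c * a) * c = 0 := by rw [sub_mul, one_mul, mul_assoc, hac, mul_one, sub_self]
      obtain ⟨v, hv⟩ := h1
      rw [← hv] at h2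
      have hc : c = 0 := (Units.mul_right_eq_zero v).1 h2
      rw [hc, mul_zero] at hac
      exact absurd hac zero_ne_one
  refine ⟨ha, ?_⟩
  obtain ⟨w, rfl⟩ := ha
  rw [show b = ↑w⁻¹ * (↑w * b) by rw [← mul_assoc, w.inv_mul, one_mul], ← hu]
  exact (w⁻¹).isUnit.mul u.isUnit

theorem nonempty_iso {M N : C} (hM : LE' M) (hN : LE' N) (h : Retr M N) : Nonempty (M ≅ N) := by
  haveI : IsLocalRing (End M) := hM
  haveI : IsLocalRing (End N) := hN
  obtain ⟨s, r, e⟩ := h
  let p : End N := r ≫ s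
  have hp : p * p = p := show (r ≫ s) ≫ r ≫ s = r ≫ s by rw [Category.assoc, reassoc_of% e]
  rcases IsLocalRing.isUnit_or_isUnit_of_add_one (add_sub_cancel p 1) with h1 | h1
  · obtain ⟨v, hv⟩ := h1
    have : p = 1 := by
      exact IsUnit.mul_left_cancel ⟨v, hv⟩ (hp.trans (mul_one _).symm)
    exact ⟨⟨s, r, e, this⟩⟩
  · obtain ⟨v, hv⟩ := h1
    have h2 : (1 - p) * p = 0 := by rw [sub_mul, one_mul, hp, sub_self]
    rw [← hv] at h2
    have hp0 : r ≫ s = 0 := (Units.mul_right_eq_zero v).1 h2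
    have : (1 : End M) = 0 := by
      show 𝟙 M = 0
      calc 𝟙 M = (s ≫ r) ≫ s ≫ r := by rw [e, Category.id_comp]
        _ = s ≫ (r ≫ s) ≫ r := by simp only [Category.assoc]
        _ = 0 := by rw [hp0, zero_comp, comp_zero]
    exact absurd this one_ne_zero

theorem Retr.le_of_isUnit {M X : C} (f : M ⟶ X) (g : X ⟶ M) (h : IsUnit (show End M from f ≫ g)) : Retr M X := by
  obtain ⟨u, hu⟩ := h
  refine ⟨f, g ≫ (↑u⁻¹ : End M), ?_⟩
  have hu' : (f ≫ g : M ⟶ M) = (↑u : End M) := hu.symm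
  rw [← Category.assoc, hu']
  exact u.inv_mul

theorem exists_unit_of_sum {M : C} (hM : LE' M) {ι : Type*} (s : Finset ι) (f : ι → End M)
    (h : IsUnit (∑ i ∈ s, f i)) : ∃ i ∈ s, IsUnit (f i) := by
  classical
  haveI : IsLocalRing (End M) := hM
  induction s using Finset.induction_on with
  | empty => rw [Finset.sum_empty] at h; exact absurd h not_isUnit_zero
  | insert a s ha ih =>
    rw [Finset.sum_insert ha] at h
    obtain ⟨u, hu⟩ := h
    have h1 : f a * ↑u⁻¹ + (∑ i ∈ s, f i) * ↑u⁻¹ = 1 := by rw [← add_mul, ← hu, u.mul_inv]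
    rcases IsLocalRing.isUnit_or_isUnit_of_add_one h1 with h2 | h2
    · exact ⟨a, Finset.mem_insert_self a s, (isUnit_of_mul hM h2).1⟩
    · obtain ⟨i, hi, h3⟩ := ih (isUnit_of_mul hM h2).1
      exact ⟨i, Finset.mem_insert_of_mem hi, h3⟩

theorem nonunit_add {M : C} (hM : LE' M) {a b : End M} (ha : ¬ IsUnit a) (hb : ¬ IsUnit b) : ¬ IsUnit (a + b) := by
  intro h
  obtain ⟨i, -, hi⟩ := exists_unit_of_sum hM Finset.univ ![a, b] (by simpa using h)
  fin_cases i
  · exact ha hi
  · exact hb hi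

variable [HasFiniteBiproducts C]

/-- A retract of a finite sum with local endomorphisms is a retract of one summand. -/
theorem Retr.biproduct {M : C} (hM : LE' M) {ι : Type} [Finite ι] {N : ι → C} (h : Retr M (⨁ N)) :
    ∃ i, Retr M (N i) := by
  classical
  cases nonempty_fintype ι
  obtain ⟨s, r, e⟩ := h
  let F : ι → End M := fun i => (s ≫ biproduct.π N i) ≫ biproduct.ι N i ≫ r
  have hs : (∑ i : ι, F i) = 1 := by
    show (∑ i : ι, ((s ≫ biproduct.π N i) ≫ biproduct.ι N i ≫ r : M ⟶ M)) = 𝟙 M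
    calc _ = s ≫ (∑ i : ι, biproduct.π N i ≫ biproduct.ι N i) ≫ r := by
          rw [Preadditive.sum_comp, Preadditive.comp_sum]
          exact Finset.sum_congr rfl fun i _ => by simp only [Category.assoc]
      _ = 𝟙 M := by rw [biproduct.total, Category.id_comp, e]
  obtain ⟨i, -, hi⟩ := exists_unit_of_sum hM Finset.univ F (hs.symm ▸ isUnit_one)
  exact ⟨i, Retr.le_of_isUnit _ _ hi⟩

theorem retr_biproduct {ι : Type} [Finite ι] (N : ι → C) (i : ι) : Retr (N i) (⨁ N) :=
  ⟨biproduct.ι N i, biproduct.π N i, biproduct.ι_π_self N i⟩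

/-- The multiplicity of an object with local endomorphism ring is well defined. -/
theorem card_eq {M : C} (hM : LE' M) {ι κ : Type} [Finite ι] [Finite κ] {N : ι → C} {N' : κ → C}
    (hN : ∀ i, LE' (N i)) (hN' : ∀ j, LE' (N' j)) (e : (⨁ N) ≅ ⨁ N') :
    Nat.card {i // Nonempty (N i ≅ M)} = Nat.card {j // Nonempty (N' j ≅ M)} := by
  classical
  cases nonempty_fintype ι
  cases nonempty_fintype κ
  haveI : IsLocalRing (End M) := hM
  let c : RingCon (End M) :=
    { r := fun a b => ¬ IsUnit (a - b)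
      iseqv :=
        { refl := fun a => by rw [sub_self]; exact not_isUnit_zero
          symm := fun {a b} h hu => h (neg_sub b a ▸ hu.neg)
          trans := fun {a b d} h1 h2 => by rw [← sub_add_sub_cancel a b d]; exact nonunit_add hM h1 h2 }
      mul' := fun {a b d f} h1 h2 => by
        rw [show a * d - b * f = (a - b) * d + b * (d - f) by rw [sub_mul, mul_sub]; abel]
        exact nonunit_add hM (fun h => h1 (isUnit_of_mul hM h).1) fun h => h2 (isUnit_of_mul hM h).2
      add' := fun {a b d f} h1 h2 => by rw [add_sub_add_comm]; exact nonunit_add hM h1 h2 }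
  let q : End M →+* c.Quotient := c.mk'
  have hq0 : ∀ a, q a = 0 ↔ ¬ IsUnit a := fun a => by
    rw [show (0 : c.Quotient) = q 0 from (map_zero q).symm]
    refine (RingCon.eq c).trans ?_
    show ¬ IsUnit (a - 0) ↔ _
    rw [sub_zero]
  haveI : Nontrivial c.Quotient := ⟨⟨q 1, 0, fun h => (hq0 1).1 h isUnit_one⟩⟩
  letI : DivisionRing c.Quotient := DivisionRing.ofIsUnitOrEqZero fun x => by
    obtain ⟨a, rfl⟩ := Quotient.exists_rep x
    by_cases ha : IsUnit a
    · exact Or.inl (ha.map q)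
    · exact Or.inr ((hq0 a).2 ha)
  let u : ∀ i : {i // Nonempty (N i ≅ M)}, N i.1 ≅ M := fun i => i.2.some
  let u' : ∀ j : {j // Nonempty (N' j ≅ M)}, N' j.1 ≅ M := fun j => j.2.some
  let A : Matrix {j // Nonempty (N' j ≅ M)} {i // Nonempty (N i ≅ M)} c.Quotient := fun j i =>
    q ((u i).inv ≫ biproduct.ι N i.1 ≫ e.hom ≫ biproduct.π N' j.1 ≫ (u' j).hom)
  let B : Matrix {i // Nonempty (N i ≅ M)} {j // Nonempty (N' j ≅ M)} c.Quotient := fun i j =>
    q ((u' j).inv ≫ biproduct.ι N' j.1 ≫ e.inv ≫ biproduct.π N i.1 ≫ (u i).hom)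
  have aux : ∀ {α β : Type} [Fintype α] [Fintype β] (P : α → C) (P' : β → C) (_ : ∀ j, LE' (P' j))
      (f : (⨁ P) ≅ ⨁ P') (v : ∀ i : {i // Nonempty (P i ≅ M)}, P i.1 ≅ M)
      (v' : ∀ j : {j // Nonempty (P' j ≅ M)}, P' j.1 ≅ M) (i i' : {i // Nonempty (P i ≅ M)}),
      (∑ j : {j // Nonempty (P' j ≅ M)}, q ((v' j).inv ≫ biproduct.ι P' j.1 ≫ f.inv ≫ biproduct.π P i.1 ≫ (v i).hom) *
        q ((v i').inv ≫ biproduct.ι P i'.1 ≫ f.hom ≫ biproduct.π P' j.1 ≫ (v' j).hom)) =
        if i = i' then 1 else 0 := by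
    intro α β _ _ P P' hP' f v v' i i'
    let T : β → End M := fun j =>
      ((v i').inv ≫ biproduct.ι P i'.1 ≫ f.hom ≫ biproduct.π P' j) ≫
        biproduct.ι P' j ≫ f.inv ≫ biproduct.π P i.1 ≫ (v i).hom
    have h1 : ∀ j : {j // Nonempty (P' j ≅ M)},
        q ((v' j).inv ≫ biproduct.ι P' j.1 ≫ f.inv ≫ biproduct.π P i.1 ≫ (v i).hom) *
        q ((v i').inv ≫ biproduct.ι P i'.1 ≫ f.hom ≫ biproduct.π P' j.1 ≫ (v' j).hom) = q (T j.1) := fun j => by
      rw [← map_mul]
      congr 1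
      show (_ ≫ _ : M ⟶ M) = _
      simp only [T, Category.assoc, Iso.hom_inv_id_assoc]
    rw [Finset.sum_congr rfl fun j _ => h1 j, ← Finset.sum_subtype (Finset.univ.filter fun j => Nonempty (P' j ≅ M))
      (by simp) (fun j => q (T j)), Finset.sum_filter_of_ne, ← map_sum]
    · have h2 : (∑ j, T j : End M) = (v i').inv ≫ (biproduct.ι P i'.1 ≫ biproduct.π P i.1) ≫ (v i).hom := by
        calc (∑ j, T j : End M) = ((v i').inv ≫ biproduct.ι P i'.1 ≫ f.hom) ≫
              (∑ j, biproduct.π P' j ≫ biproduct.ι P' j) ≫ f.inv ≫ biproduct.π P i.1 ≫ (v i).hom := by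
              rw [Preadditive.sum_comp, Preadditive.comp_sum]
              exact Finset.sum_congr rfl fun j _ => by simp only [T, Category.assoc]
          _ = _ := by rw [biproduct.total]; simp
      rw [h2]
      by_cases hii : i = i'
      · subst hii
        rw [if_pos rfl, biproduct.ι_π_self, Category.id_comp, Iso.inv_hom_id]
        exact map_one q
      · rw [if_neg hii, biproduct.ι_π_ne P (fun h => hii (Subtype.ext h).symm), zero_comp, comp_zero]
        exact map_zero q
    · intro j _ hj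
      by_contra hno
      exact hj ((hq0 _).2 fun hu => hno ((nonempty_iso hM (hP' j) (Retr.le_of_isUnit
        ((v i').inv ≫ biproduct.ι P i'.1 ≫ f.hom ≫ biproduct.π P' j) (biproduct.ι P' j ≫ f.inv ≫ biproduct.π P i.1 ≫ (v i).hom) hu)).map Iso.symm))
  have hBA : B * A = 1 := Matrix.ext fun i i' => by
    rw [Matrix.mul_apply, Matrix.one_apply]
    exact aux N N' hN' e u u' i i'
  have hAB : A * B = 1 := Matrix.ext fun j j' => by
    rw [Matrix.mul_apply, Matrix.one_apply]
    exact aux N' N hN e.symm u' u j j'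
  rw [Nat.card_eq_fintype_card, Nat.card_eq_fintype_card]
  exact Matrix.square_of_invertible B A hBA hAB

end Groth.Agent.KS17
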