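import Groth.Agent.Lib.KS17.Bundle
import Groth.Agent.Lib.TensorMod.Dual

/-!
# Stability of Weil finiteness
-/

set_option autoImplicit false
set_option linter.style.haveILetI false

universe u

open CategoryTheory CategoryTheory.Limits AlgebraicGeometry

namespace Groth.Agent.KS17

open Groth.Agent Groth.Agent.M1 Groth.Agent.M2 Groth.Agent.VB17

variable {k : Type u} [Field k] {X : Scheme.{u}} [X.Over (Spec (CommRingCat.of k))]

theorem le'_invertible (hX : RegCurve k X) {L : X.Modules} (hL : PicF.IsInvertible L) : LE' L := by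
  haveI := hX.integral
  haveI := hX.like.noetherian
  have h1 := (isInvertible_iff_isFinLocFreeOfRank_one L).1 hL
  refine le'_of_indecomposable hX h1 (not_isZero_of_invertible hL) fun A B ⟨e⟩ => ?_
  obtain ⟨a, ha⟩ := exists_rank_summand hX h1 e
  obtain ⟨b, hb⟩ := exists_rank_summand hX h1 (e ≪≫ biprod.braiding A B)
  have hsum : 1 = a + b := rank_add (ShortComplex.Splitting.ofHasBinaryBiproduct A B).shortExact ha
    (isFinLocFreeOfRank_of_iso e h1) hb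
  rcases Nat.eq_zero_or_pos a with h | h
  · exact Or.inl (isZero_of_rank_zero (h ▸ ha))
  · obtain rfl : b = 0 := by omega
    exact Or.inr (isZero_of_rank_zero hb)

/-- An invertible module is Weil finite exactly when it is torsion. -/
theorem wf_invertible_iff (hX : RegCurve k X) {L : X.Modules} (hL : PicF.IsInvertible L) :
    WF (fun n => CohB1.tensorPow L n) ↔
      ∃ m : ℕ, 0 < m ∧ Nonempty (CohB1.tensorPow L m ≅ Coh.structureModule X) := by
  have hR := (isInvertible_iff_isFinLocFreeOfRank_one L).1 hL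
  rw [wf_iff_finType hX hR]
  constructor
  · rintro ⟨N, K, hK⟩
    choose j hj using fun n : ℕ => hK n _ (le'_invertible hX (isInvertible_tensorPow hL n)) (Retr.of_iso (Iso.refl _))
    obtain ⟨a, b, hne, hab⟩ := Finite.exists_ne_map_eq_of_infinite j
    wlog hlt : a < b generalizing a b
    · exact this b a hne.symm hab.symm (by omega)
    obtain ⟨m, rfl⟩ : ∃ m, b = m + a := ⟨b - a, by omega⟩
    obtain ⟨i⟩ := hj a
    obtain ⟨i'⟩ := hj (m + a)
    rw [← hab] at i'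
    refine ⟨m, by omega, ?_⟩
    obtain ⟨D, -, ⟨inv⟩⟩ := exists_inverse (isInvertible_tensorPow hL a)
    let φ : CohB1.tensorMod (CohB1.tensorPow L m) (CohB1.tensorPow L a) ≅ CohB1.tensorPow L a :=
      (tensorPowAdd L m a).symm ≪≫ i' ≪≫ i.symm
    exact ⟨(tensorRUnit _).symm ≪≫ tensorIso (Iso.refl _) inv.symm ≪≫ (tensorAssoc _ _ _).symm ≪≫
      tensorIso φ (Iso.refl D) ≪≫ inv⟩
  · rintro ⟨m, hm, ⟨e⟩⟩
    have per : ∀ q r, Nonempty (CohB1.tensorPow L (m * q + r) ≅ CohB1.tensorPow L r) := by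
      intro q r
      induction q with
      | zero => exact ⟨eqToIso (by rw [Nat.mul_zero, Nat.zero_add])⟩
      | succ q ih =>
        obtain ⟨i⟩ := ih
        exact ⟨eqToIso (by rw [show m * (q + 1) + r = m + (m * q + r) by ring]) ≪≫ tensorPowAdd L m (m * q + r) ≪≫
          tensorIso e i ≪≫ tensorLUnit _⟩
    refine finType_of_cover (fun r : Fin m => CohB1.tensorPow L r) (fun r => dec_tensorPow hX hR r) fun n M _ h => ?_
    refine ⟨⟨n % m, Nat.mod_lt _ hm⟩, h.trans (Retr.of_iso ?_)⟩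
    exact eqToIso (by rw [Nat.div_add_mod]) ≪≫ (per (n / m) (n % m)).some

theorem Retr.tensor {A A' B B' : X.Modules} (h : Retr A A') (h' : Retr B B') :
    Retr (CohB1.tensorMod A B) (CohB1.tensorMod A' B') := by
  obtain ⟨s, r, e⟩ := h
  obtain ⟨s', r', e'⟩ := h'
  exact ⟨tensorMap s s', tensorMap r r', by rw [← tensorMap_comp, e, e', tensorMap_id]⟩

theorem Retr.tensorPow {A A' : X.Modules} (h : Retr A A') :
    ∀ n, Retr (CohB1.tensorPow A n) (CohB1.tensorPow A' n)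
  | 0 => Retr.of_iso (Iso.refl _)
  | n + 1 => (Retr.tensorPow h n).tensor h

/-- A retract of a Weil finite bundle is Weil finite. -/
theorem finType_retract {A A' : X.Modules} (h : Retr A A') (hf : FinType (fun n => CohB1.tensorPow A' n)) :
    FinType (fun n => CohB1.tensorPow A n) := by
  obtain ⟨m, L, hL⟩ := hf
  exact ⟨m, L, fun n M hM hr => hL n M hM (hr.trans (h.tensorPow n))⟩

/-- The standard pieces of two finite types. -/
theorem exists_cover_tensor (hX : RegCurve k X) {r₁ r₂ : ℕ} {E₁ E₂ : X.Modules}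
    (hE₁ : FlatMod.IsFinLocFreeOfRank r₁ E₁) (hE₂ : FlatMod.IsFinLocFreeOfRank r₂ E₂)
    (h₁ : FinType (fun n => CohB1.tensorPow E₁ n)) (h₂ : FinType (fun n => CohB1.tensorPow E₂ n)) :
    ∃ (N : ℕ) (K : Fin N → X.Modules), ∀ a b M, LE' M →
      Retr M (CohB1.tensorMod (CohB1.tensorPow E₁ a) (CohB1.tensorPow E₂ b)) → ∃ j, Nonempty (M ≅ K j) := by
  classical
  obtain ⟨m₁, L₁, hL₁⟩ := h₁
  obtain ⟨m₂, L₂, hL₂⟩ := h₂
  -- the pairs that occur
  let S := {p : Fin m₁ × Fin m₂ // ∃ a b, (∃ r, FlatMod.IsFinLocFreeOfRank r (CohB1.tensorMod (L₁ p.1) (L₂ p.2))) ∧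
    Retr (L₁ p.1) (CohB1.tensorPow E₁ a) ∧ Retr (L₂ p.2) (CohB1.tensorPow E₂ b)}
  have hdec : ∀ p : S, Dec (CohB1.tensorMod (L₁ p.1.1) (L₂ p.1.2)) := fun p => by
    obtain ⟨a, b, ⟨r, hr⟩, -⟩ := p.2
    exact dec_bundle hX r _ hr
  choose n N hN e using hdec
  let T := Σ p : S, Fin (n p)
  refine ⟨Fintype.card T, fun q => N ((Fintype.equivFin T).symm q).1 ((Fintype.equivFin T).symm q).2, fun a b M hM hr => ?_⟩
  obtain ⟨na, Na, hNa, ⟨ea⟩⟩ := dec_tensorPow hX hE₁ a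
  obtain ⟨nb, Nb, hNb, ⟨eb⟩⟩ := dec_tensorPow hX hE₂ b
  let F₂ := tensorR (CohB1.tensorPow E₂ b)
  obtain ⟨i, hi⟩ := (hr.trans (Retr.of_iso (F₂.mapIso ea ≪≫ F₂.mapBiproduct Na))).biproduct hM
  let F₁ := tensorR (Na i)
  obtain ⟨j, hj⟩ := (hi.trans (Retr.of_iso (tensorComm _ _ ≪≫ F₁.mapIso eb ≪≫ F₁.mapBiproduct Nb))).biproduct hM
  have hai := (retr_biproduct Na i).trans (Retr.of_iso ea.symm)
  have hbj := (retr_biproduct Nb j).trans (Retr.of_iso eb.symm)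
  obtain ⟨p₁, ⟨u₁⟩⟩ := hL₁ a _ (hNa i) hai
  obtain ⟨p₂, ⟨u₂⟩⟩ := hL₂ b _ (hNb j) hbj
  haveI := hX.integral
  obtain ⟨ra, hra⟩ : ∃ r, FlatMod.IsFinLocFreeOfRank r (Na i) := exists_rank_retract hX (isFinLocFreeOfRank_tensorPow hE₁ a) hai
  obtain ⟨rb, hrb⟩ : ∃ r, FlatMod.IsFinLocFreeOfRank r (Nb j) := exists_rank_retract hX (isFinLocFreeOfRank_tensorPow hE₂ b) hbj
  let p : S := ⟨(p₁, p₂), a, b, ⟨_, isFinLocFreeOfRank_tensor (isFinLocFreeOfRank_of_iso u₁ hra) (isFinLocFreeOfRank_of_iso u₂ hrb)⟩,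
    (Retr.of_iso u₁.symm).trans hai, (Retr.of_iso u₂.symm).trans hbj⟩
  obtain ⟨β⟩ := e p
  obtain ⟨l, hl⟩ := pos_of_retr hM (hN p) β
    ((hj.trans (Retr.of_iso (tensorComm _ _))).trans (Retr.of_iso (tensorIso u₁ u₂)))
  refine ⟨Fintype.equivFin T ⟨p, l⟩, ?_⟩
  dsimp only
  rw [Equiv.symm_apply_apply]
  exact hl.map Iso.symm

theorem Retr.biprod {M A B : X.Modules} (hM : LE' M) (h : Retr M (A ⊞ B)) : Retr M A ∨ Retr M B := by
  haveI : IsLocalRing (End M) := hM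
  obtain ⟨s, r, e⟩ := h
  let f : End M := (s ≫ biprod.fst) ≫ biprod.inl ≫ r
  let g : End M := (s ≫ biprod.snd) ≫ biprod.inr ≫ r
  have hfg : f + g = 1 := by
    show (s ≫ biprod.fst) ≫ biprod.inl ≫ r + (s ≫ biprod.snd) ≫ biprod.inr ≫ r = 𝟙 M
    calc _ = s ≫ (biprod.fst ≫ biprod.inl + biprod.snd ≫ biprod.inr) ≫ r := by
          simp only [Preadditive.add_comp, Preadditive.comp_add, Category.assoc]
      _ = 𝟙 M := by rw [biprod.total, Category.id_comp, e]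
  exact (IsLocalRing.isUnit_or_isUnit_of_add_one hfg).imp (Retr.le_of_isUnit _ _) (Retr.le_of_isUnit _ _)

/-- Summands of powers of a sum are summands of mixed powers. -/
theorem exists_retr_biprod (hX : RegCurve k X) {r : ℕ} {E₁ E₂ : X.Modules}
    (hE : FlatMod.IsFinLocFreeOfRank r (E₁ ⊞ E₂)) :
    ∀ n M, LE' M → Retr M (CohB1.tensorPow (E₁ ⊞ E₂) n) →
      ∃ a b, Retr M (CohB1.tensorMod (CohB1.tensorPow E₁ a) (CohB1.tensorPow E₂ b)) := by
  intro n
  induction n with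
  | zero => exact fun M _ h => ⟨0, 0, h.trans (Retr.of_iso (tensorLUnit _).symm)⟩
  | succ n ih =>
    intro M hM h
    obtain ⟨m, N, hN, ⟨e⟩⟩ := dec_tensorPow hX hE n
    obtain ⟨i, hi⟩ := (h.trans (Retr.of_iso ((tensorR (E₁ ⊞ E₂)).mapIso e ≪≫ (tensorR (E₁ ⊞ E₂)).mapBiproduct N))).biproduct hM
    obtain ⟨a, b, hab⟩ := ih (N i) (hN i) ((retr_biproduct N i).trans (Retr.of_iso e.symm))
    let Y := CohB1.tensorMod (CohB1.tensorPow E₁ a) (CohB1.tensorPow E₂ b)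
    have h1 : Retr M (CohB1.tensorMod Y (E₁ ⊞ E₂)) := hi.trans (hab.map (tensorR (E₁ ⊞ E₂)))
    haveI := preservesBinaryBiproducts_of_preservesBiproducts (tensorR Y)
    rcases Retr.biprod hM (h1.trans (Retr.of_iso (tensorComm _ _ ≪≫ (tensorR Y).mapBiprod E₁ E₂))) with h2 | h2
    · exact ⟨a + 1, b, h2.trans (Retr.of_iso ((tensorAssoc _ _ _).symm ≪≫
        tensorIso (tensorComm E₁ (CohB1.tensorPow E₁ a)) (Iso.refl _)))⟩
    · exact ⟨a, b + 1, h2.trans (Retr.of_iso (tensorComm E₂ Y ≪≫ tensorAssoc _ _ _))⟩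

/-- Weil finiteness passes to sums. -/
theorem finType_biprod (hX : RegCurve k X) {r₁ r₂ : ℕ} {E₁ E₂ : X.Modules}
    (hE₁ : FlatMod.IsFinLocFreeOfRank r₁ E₁) (hE₂ : FlatMod.IsFinLocFreeOfRank r₂ E₂)
    (h₁ : FinType (fun n => CohB1.tensorPow E₁ n)) (h₂ : FinType (fun n => CohB1.tensorPow E₂ n)) :
    FinType (fun n => CohB1.tensorPow (E₁ ⊞ E₂) n) := by
  obtain ⟨N, K, hK⟩ := exists_cover_tensor hX hE₁ hE₂ h₁ h₂
  obtain ⟨r, hr⟩ := exists_rank_biprod hX hE₁ hE₂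
  refine ⟨N, K, fun n M hM h => ?_⟩
  obtain ⟨a, b, hab⟩ := exists_retr_biprod hX hr n M hM h
  exact hK a b M hM hab

/-- Weil finiteness passes to tensor products. -/
theorem finType_tensor (hX : RegCurve k X) {r₁ r₂ : ℕ} {E₁ E₂ : X.Modules}
    (hE₁ : FlatMod.IsFinLocFreeOfRank r₁ E₁) (hE₂ : FlatMod.IsFinLocFreeOfRank r₂ E₂)
    (h₁ : FinType (fun n => CohB1.tensorPow E₁ n)) (h₂ : FinType (fun n => CohB1.tensorPow E₂ n)) :
    FinType (fun n => CohB1.tensorPow (CohB1.tensorMod E₁ E₂) n) := by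
  obtain ⟨N, K, hK⟩ := exists_cover_tensor hX hE₁ hE₂ h₁ h₂
  exact ⟨N, K, fun n M hM h => hK n n M hM (h.trans (Retr.of_iso (tensorPowMul E₁ E₂ n)))⟩

end Groth.Agent.KS17
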