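import Groth.Agent.Lib.KS17.Abstract
import Mathlib.CategoryTheory.Preadditive.AdditiveFunctor
import Mathlib.Algebra.Polynomial.Coeff
import Mathlib.Algebra.Polynomial.Degree.Operations
import Mathlib.Algebra.Polynomial.Degree.Lemmas
import Mathlib.LinearAlgebra.Dimension.Constructions
import Mathlib.LinearAlgebra.Dimension.Finite
import Mathlib.LinearAlgebra.Dimension.StrongRankCondition
import Mathlib.LinearAlgebra.FreeModule.PID
import Mathlib.RingTheory.Finiteness.Basic
import Mathlib.LinearAlgebra.InvariantBasisNumber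
import Mathlib.LinearAlgebra.FreeModule.StrongRankCondition

/-!
# Finitely many indecomposable summands in a sequence of objects
-/

set_option autoImplicit false
set_option linter.style.haveILetI false

universe v w

open CategoryTheory CategoryTheory.Limits Polynomial

namespace Groth.Agent.KS17

variable {C : Type w} [Category.{v} C] [Preadditive C] [HasFiniteBiproducts C]

/-- A finite sum of objects with local endomorphism rings. -/
def Dec (X : C) : Prop := ∃ (n : ℕ) (N : Fin n → C), (∀ i, LE' (N i)) ∧ Nonempty (X ≅ ⨁ N)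

/-- Two distinct polynomial expressions with natural coefficients agree. -/
def WF (T : ℕ → C) : Prop :=
  ∃ P Q : Polynomial ℕ, P ≠ Q ∧ Nonempty ((∐ fun i : Fin (P.natDegree + 1) => ∐ fun _ : Fin (P.coeff ↑i) => T ↑i) ≅
    (∐ fun i : Fin (Q.natDegree + 1) => ∐ fun _ : Fin (Q.coeff ↑i) => T ↑i))

/-- Only finitely many objects with local endomorphisms are retracts of members of the sequence. -/
def FinType (T : ℕ → C) : Prop :=
  ∃ (m : ℕ) (L : Fin m → C), ∀ (n : ℕ) (M : C), LE' M → Retr M (T n) → ∃ j, Nonempty (M ≅ L j)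

variable {T : ℕ → C}

/-- The decomposition of a polynomial expression. -/
noncomputable def exprIso {n : ℕ → ℕ} {N : ∀ i, Fin (n i) → C} (e : ∀ i, T i ≅ ⨁ N i) (P : Polynomial ℕ) :
    (∐ fun i : Fin (P.natDegree + 1) => ∐ fun _ : Fin (P.coeff ↑i) => T ↑i) ≅
      ⨁ fun q : Σ i : Fin (P.natDegree + 1), Σ _ : Fin (P.coeff ↑i), Fin (n ↑i) => N ↑q.1 q.2.2 :=
  Sigma.mapIso (fun _ => Sigma.mapIso (fun _ => e _) ≪≫ (biproduct.isoCoproduct _).symm ≪≫
      biproductBiproductIso (fun _ => Fin (n _)) fun _ j => N _ j) ≪≫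
    (biproduct.isoCoproduct _).symm ≪≫
    biproductBiproductIso (fun i : Fin (P.natDegree + 1) => Σ _ : Fin (P.coeff ↑i), Fin (n ↑i)) fun i q => N ↑i q.2

theorem card_expr {n : ℕ → ℕ} {N : ∀ i, Fin (n i) → C} (M : C) (P : Polynomial ℕ) {D : ℕ} (hD : P.natDegree < D) :
    Nat.card {q : Σ i : Fin (P.natDegree + 1), Σ _ : Fin (P.coeff ↑i), Fin (n ↑i) // Nonempty (N ↑q.1 q.2.2 ≅ M)} =
      ∑ i ∈ Finset.range D, P.coeff i * Nat.card {j : Fin (n i) // Nonempty (N i j ≅ M)} := by
  let g : {q : Σ i : Fin (P.natDegree + 1), Σ _ : Fin (P.coeff ↑i), Fin (n ↑i) // Nonempty (N ↑q.1 q.2.2 ≅ M)} ≃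
      Σ i : Fin (P.natDegree + 1), Fin (P.coeff ↑i) × {j : Fin (n ↑i) // Nonempty (N ↑i j ≅ M)} :=
    { toFun := fun q => ⟨q.1.1, q.1.2.1, q.1.2.2, q.2⟩
      invFun := fun s => ⟨⟨s.1, s.2.1, s.2.2.1⟩, s.2.2.2⟩
      left_inv := fun q => rfl
      right_inv := fun s => rfl }
  rw [Nat.card_congr g, Nat.card_sigma]
  simp only [Nat.card_prod, Nat.card_fin]
  rw [Fin.sum_univ_eq_sum_range (fun i => P.coeff i * Nat.card {j : Fin (n i) // Nonempty (N i j ≅ M)})]
  refine Finset.sum_subset (Finset.range_mono hD) fun i _ hi => ?_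
  rw [Polynomial.coeff_eq_zero_of_natDegree_lt (by simpa using hi), zero_mul]

theorem pos_of_retr {M X : C} (hM : LE' M) {n : ℕ} {N : Fin n → C} (hN : ∀ i, LE' (N i)) (e : X ≅ ⨁ N)
    (h : Retr M X) : ∃ i, Nonempty (N i ≅ M) := by
  obtain ⟨i, hi⟩ := (h.trans (Retr.of_iso e)).biproduct hM
  exact ⟨i, (nonempty_iso hM (hN i) hi).map Iso.symm⟩

/-- A polynomial relation bounds the retracts of one member by those of the earlier ones. -/
theorem WF.exists_top (hdec : ∀ n, Dec (T n)) (h : WF T) :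
    ∃ d, ∀ M, LE' M → Retr M (T d) → ∃ i < d, Retr M (T i) := by
  classical
  obtain ⟨P, Q, hne, ⟨φ⟩⟩ := h
  choose n N hN e using hdec
  have e' : ∀ i, T i ≅ ⨁ N i := fun i => (e i).some
  let D := P.natDegree + Q.natDegree + 1
  let s := (Finset.range D).filter fun i => P.coeff i ≠ Q.coeff i
  have hs : s.Nonempty := by
    obtain ⟨i, hi⟩ : ∃ i, P.coeff i ≠ Q.coeff i := by
      by_contra hc
      push Not at hc
      exact hne (Polynomial.ext hc)
    refine ⟨i, Finset.mem_filter.2 ⟨Finset.mem_range.2 ?_, hi⟩⟩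
    by_contra hiD
    exact hi (by rw [Polynomial.coeff_eq_zero_of_natDegree_lt (by omega), Polynomial.coeff_eq_zero_of_natDegree_lt (by omega)])
  let d := s.max' hs
  obtain ⟨hdD, hd⟩ := Finset.mem_filter.1 (s.max'_mem hs)
  refine ⟨d, fun M hM hMd => ?_⟩
  let c := fun i => Nat.card {j : Fin (n i) // Nonempty (N i j ≅ M)}
  have hc : ∑ i ∈ Finset.range D, P.coeff i * c i = ∑ i ∈ Finset.range D, Q.coeff i * c i := by
    rw [← card_expr M P (by omega), ← card_expr M Q (by omega)]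
    exact card_eq hM (fun q => hN _ _) (fun q => hN _ _) ((exprIso e' P).symm ≪≫ φ ≪≫ exprIso e' Q)
  by_contra hno
  push Not at hno
  have hz : ∀ i ∈ Finset.range D, i ≠ d → P.coeff i * c i = Q.coeff i * c i := fun i hi hid => by
    rcases lt_or_gt_of_ne hid with hlt | hgt
    · have : c i = 0 := Nat.card_eq_zero.2 (Or.inl ⟨fun ⟨j, ⟨a⟩⟩ =>
        hno i hlt ((Retr.of_iso a.symm).trans ((retr_biproduct (N i) j).trans (Retr.of_iso (e' i).symm)))⟩)
      rw [this, mul_zero, mul_zero]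
    · have : i ∉ s := fun his => (Finset.le_max' s i his).not_gt hgt
      have : P.coeff i = Q.coeff i := by_contra fun hne => this (Finset.mem_filter.2 ⟨hi, hne⟩)
      rw [this]
  rw [← Finset.add_sum_erase _ _ hdD, ← Finset.add_sum_erase _ _ hdD,
    Finset.sum_congr rfl fun i hi => hz i (Finset.mem_of_mem_erase hi) (Finset.ne_of_mem_erase hi)] at hc
  obtain ⟨j, hj⟩ := pos_of_retr hM (hN d) (e' d) hMd
  have hpos : 0 < c d := Nat.card_pos_iff.2 ⟨⟨⟨j, hj⟩⟩, inferInstance⟩
  exact hd (Nat.eq_of_mul_eq_mul_right hpos (Nat.add_right_cancel hc))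

/-- A polynomial relation in a recursive sequence leaves finitely many kinds of summands. -/
theorem WF.finType (hdec : ∀ n, Dec (T n)) (F : C ⥤ C) [F.Additive] (hT : ∀ n, Nonempty (T (n + 1) ≅ F.obj (T n)))
    (h : WF T) : FinType T := by
  classical
  obtain ⟨d, hd⟩ := h.exists_top hdec
  choose n N hN e using hdec
  have hall : ∀ (m : ℕ) (M : C), LE' M → Retr M (T m) → ∃ i < d, Retr M (T i) := by
    intro m
    induction m with
    | zero =>
      intro M hM hr
      rcases Nat.eq_zero_or_pos d with h0 | h0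
      · exact hd M hM (by rwa [h0])
      · exact ⟨0, h0, hr⟩
    | succ m ih =>
      intro M hM hr
      obtain ⟨α⟩ := hT m
      obtain ⟨β⟩ := e m
      obtain ⟨j, hj⟩ := (hr.trans (Retr.of_iso (α ≪≫ F.mapIso β ≪≫ F.mapBiproduct (N m)))).biproduct hM
      obtain ⟨i, hi, hri⟩ := ih _ (hN m j) ((retr_biproduct (N m) j).trans (Retr.of_iso β.symm))
      have hMi : Retr M (T (i + 1)) := (hj.trans (hri.map F)).trans (Retr.of_iso (hT i).some.symm)
      rcases (Nat.succ_le_of_lt hi).lt_or_eq with hlt | heq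
      · exact ⟨i + 1, hlt, hMi⟩
      · exact hd M hM (heq ▸ hMi)
  let S := Σ i : Fin d, Fin (n i)
  refine ⟨Fintype.card S, fun q => N ((Fintype.equivFin S).symm q).1 ((Fintype.equivFin S).symm q).2, fun m M hM hr => ?_⟩
  obtain ⟨i, hi, hri⟩ := hall m M hM hr
  obtain ⟨β⟩ := e i
  obtain ⟨j, hj⟩ := pos_of_retr hM (hN i) β hri
  refine ⟨Fintype.equivFin S ⟨⟨i, hi⟩, j⟩, ?_⟩
  dsimp only
  rw [Equiv.symm_apply_apply]
  exact hj.map Iso.symm

/-- Finitely many kinds of summands give a polynomial relation. -/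
theorem FinType.wf (hdec : ∀ n, Dec (T n)) (h : FinType T) : WF T := by
  classical
  obtain ⟨m, L, hL⟩ := h
  choose n N hN e using hdec
  have hg : ∀ i j, ∃ q, Nonempty (N i j ≅ L q) := fun i j =>
    hL i _ (hN i j) ((retr_biproduct (N i) j).trans (Retr.of_iso (e i).some.symm))
  choose g a using hg
  have e' : ∀ i, T i ≅ ⨁ fun j => L (g i j) := fun i => (e i).some ≪≫ biproduct.mapIso fun j => (a i j).some
  let v : Fin (m + 1) → Fin m → ℤ := fun i q => Nat.card {j : Fin (n i) // g i j = q}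
  have hv : ¬ LinearIndependent ℤ v := fun hi => by
    have := LinearIndependent.fintype_card_le_finrank hi
    rw [Fintype.card_fin, Module.finrank_fintype_fun_eq_card, Fintype.card_fin] at this
    omega
  obtain ⟨c, hc, i₀, hi₀⟩ := Fintype.not_linearIndependent_iff.1 hv
  let P : Polynomial ℕ := ∑ i : Fin (m + 1), monomial ↑i (c i).toNat
  let Q : Polynomial ℕ := ∑ i : Fin (m + 1), monomial ↑i (-c i).toNat
  have hP : ∀ i : ℕ, P.coeff i = if h : i < m + 1 then (c ⟨i, h⟩).toNat else 0 := fun i => by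
    simp only [P, finsetSum_coeff, coeff_monomial]
    split
    · next h =>
      rw [Finset.sum_eq_single ⟨i, h⟩ (fun b _ hb => if_neg fun hbi => hb (Fin.ext hbi)) (by simp)]
      simp
    · next h => exact Finset.sum_eq_zero fun b _ => if_neg fun hbi : (b : ℕ) = i => h (hbi ▸ b.isLt)
  have hQ : ∀ i : ℕ, Q.coeff i = if h : i < m + 1 then (-c ⟨i, h⟩).toNat else 0 := fun i => by
    simp only [Q, finsetSum_coeff, coeff_monomial]
    split
    · next h =>
      rw [Finset.sum_eq_single ⟨i, h⟩ (fun b _ hb => if_neg fun hbi => hb (Fin.ext hbi)) (by simp)]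
      simp
    · next h => exact Finset.sum_eq_zero fun b _ => if_neg fun hbi : (b : ℕ) = i => h (hbi ▸ b.isLt)
  refine ⟨P, Q, fun hPQ => hi₀ ?_, ⟨?_⟩⟩
  · have := congrArg (fun R : Polynomial ℕ => R.coeff i₀) hPQ
    simp only [hP, hQ, i₀.isLt, dite_true, Fin.eta] at this
    omega
  · have hdeg : ∀ R : Polynomial ℕ, (∀ i, m + 1 ≤ i → R.coeff i = 0) → R.natDegree < m + 1 := fun R hR =>
      Nat.lt_succ_of_le (Polynomial.natDegree_le_iff_coeff_eq_zero.2 fun i hi => hR i hi)
    have hcard : ∀ q : Fin m,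
        Nat.card {s : Σ i : Fin (P.natDegree + 1), Σ _ : Fin (P.coeff ↑i), Fin (n ↑i) // g ↑s.1 s.2.2 = q} =
          Nat.card {s : Σ i : Fin (Q.natDegree + 1), Σ _ : Fin (Q.coeff ↑i), Fin (n ↑i) // g ↑s.1 s.2.2 = q} := fun q => by
      have key : ∀ R : Polynomial ℕ, (∀ i, m + 1 ≤ i → R.coeff i = 0) →
          (Nat.card {s : Σ i : Fin (R.natDegree + 1), Σ _ : Fin (R.coeff ↑i), Fin (n ↑i) // g ↑s.1 s.2.2 = q} : ℤ) =
            ∑ i : Fin (m + 1), (R.coeff ↑i : ℤ) * v i q := fun R hR => by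
        let g' : {s : Σ i : Fin (R.natDegree + 1), Σ _ : Fin (R.coeff ↑i), Fin (n ↑i) // g ↑s.1 s.2.2 = q} ≃
            Σ i : Fin (R.natDegree + 1), Fin (R.coeff ↑i) × {j : Fin (n ↑i) // g ↑i j = q} :=
          { toFun := fun s => ⟨s.1.1, s.1.2.1, s.1.2.2, s.2⟩
            invFun := fun s => ⟨⟨s.1, s.2.1, s.2.2.1⟩, s.2.2.2⟩
            left_inv := fun s => rfl
            right_inv := fun s => rfl }
        rw [Nat.card_congr g', Nat.card_sigma]
        simp only [Nat.card_prod, Nat.card_fin]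
        rw [Fin.sum_univ_eq_sum_range (fun i => R.coeff i * Nat.card {j : Fin (n i) // g i j = q}),
          Finset.sum_subset (Finset.range_mono (hdeg R hR)) fun i _ hi => by
            rw [Polynomial.coeff_eq_zero_of_natDegree_lt (by simpa using hi), zero_mul],
          ← Fin.sum_univ_eq_sum_range]
        push_cast
        rfl
      have hq : ∑ i : Fin (m + 1), c i * v i q = 0 := by
        have := congrFun hc q
        simpa using this
      apply Int.natCast_inj.1
      rw [key P (fun i hi => by rw [hP, dif_neg (by omega)]), key Q (fun i hi => by rw [hQ, dif_neg (by omega)])]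
      simp only [hP, hQ, Fin.is_lt, dite_true, Fin.eta]
      rw [← sub_eq_zero, ← Finset.sum_sub_distrib, ← hq]
      refine Finset.sum_congr rfl fun i _ => ?_
      rw [← sub_mul, Int.toNat_sub_toNat_neg]
    let E : (Σ i : Fin (P.natDegree + 1), Σ _ : Fin (P.coeff ↑i), Fin (n ↑i)) ≃
        Σ i : Fin (Q.natDegree + 1), Σ _ : Fin (Q.coeff ↑i), Fin (n ↑i) :=
      (Equiv.sigmaFiberEquiv fun s => g ↑s.1 s.2.2).symm.trans
        ((Equiv.sigmaCongrRight fun q => (Finite.card_eq.1 (hcard q)).some).trans (Equiv.sigmaFiberEquiv _))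
    have hE : ∀ s, g ↑(E s).1 (E s).2.2 = g ↑s.1 s.2.2 := fun s =>
      ((Finite.card_eq.1 (hcard (g ↑s.1 s.2.2))).some ⟨s, rfl⟩).2
    exact exprIso e' P ≪≫ biproduct.whiskerEquiv E (fun s => eqToIso (congrArg L (hE s))) ≪≫ (exprIso e' Q).symm

end Groth.Agent.KS17
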