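import Groth.Agent.Lib.KS17.Apps
import Groth.Agent.Lib.VB17.Bound
import Groth.Agent.Lib.CurveCoh17.Degree

/-!
# Slopes in a Weil finite bundle
-/

set_option autoImplicit false
set_option backward.isDefEq.respectTransparency.types false
set_option linter.style.haveILetI false

universe u

open CategoryTheory CategoryTheory.Limits AlgebraicGeometry

namespace Groth.Agent.KS17

open Groth.Agent Groth.Agent.M1 Groth.Agent.M2 Groth.Agent.VB17 Groth.Agent.CurveCoh17

variable {k : Type u} [Field k] {X : Scheme.{u}} [X.Over (Spec (CommRingCat.of k))]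

/-- Slopes of a bundle and of its submodules lie between `-M` and `M`. -/
def SlopeBdd (k : Type u) [Field k] [X.Over (Spec (CommRingCat.of k))] (E : X.Modules) (M : ℕ) : Prop :=
  ∃ a, FlatMod.IsFinLocFreeOfRank a E ∧ -(M : ℤ) * a ≤ Curv2.deg k X E a ∧
    ∀ (G : X.Modules) (r' : ℕ) (i : G ⟶ E), Mono i → 0 < r' → FlatMod.IsFinLocFreeOfRank r' G →
      Curv2.deg k X G r' ≤ (M : ℤ) * r'

theorem SlopeBdd.of_iso (hX : RegCurve k X) {E E' : X.Modules} {M : ℕ} (e : E ≅ E') (h : SlopeBdd k E M) :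
    SlopeBdd k E' M := by
  obtain ⟨a, ha, h1, h2⟩ := h
  haveI := hX.integral
  haveI : IsIso e.hom := ⟨e.inv, e.hom_inv_id, e.inv_hom_id⟩
  haveI : Mono e.hom := IsSplitMono.mono _
  refine ⟨a, isFinLocFreeOfRank_of_iso e ha,
    h1.trans (deg_le_of_mono hX.like ha (isFinLocFreeOfRank_of_iso e ha) e.hom).1, fun G r' i hi h0 hG => ?_⟩
  haveI := hi
  haveI : IsIso e.inv := ⟨e.hom, e.inv_hom_id, e.hom_inv_id⟩
  haveI : Mono e.inv := IsSplitMono.mono _
  exact h2 G r' (i ≫ e.inv) (mono_comp _ _) h0 hG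

theorem SlopeBdd.biprod (hX : RegCurve k X) {A B : X.Modules} {M : ℕ} (hA : SlopeBdd k A M) (hB : SlopeBdd k B M) :
    SlopeBdd k (A ⊞ B) M := by
  obtain ⟨a, ha, a1, a2⟩ := hA
  obtain ⟨b, hb, b1, b2⟩ := hB
  haveI := hX.integral
  obtain ⟨c, hc⟩ := exists_rank_biprod hX ha hb
  have hS := (ShortComplex.Splitting.ofHasBinaryBiproduct A B).shortExact
  have hd := deg_add hX.like hS ha hc hb
  have hr := rank_add hS ha hc hb
  change Curv2.deg k X (A ⊞ B) c = Curv2.deg k X A a + Curv2.deg k X B b at hd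
  refine ⟨c, hc, ?_, fun G r' i hi h0 hG => ?_⟩
  · rw [hd, hr]; push_cast; linarith
  · haveI := hi
    have h := deg_le_of_shortExact hX hS ha hc hb (M : ℚ)
      (fun G r' i hi h0 hG => by
        rw [div_le_iff₀ (by exact_mod_cast h0)]; exact_mod_cast a2 G r' i hi h0 hG)
      (fun G r' i hi h0 hG => by
        rw [div_le_iff₀ (by exact_mod_cast h0)]; exact_mod_cast b2 G r' i hi h0 hG) hG i
    exact_mod_cast h

theorem SlopeBdd.biproduct (hX : RegCurve k X) {M : ℕ} :
    ∀ {n : ℕ} (N : Fin n → X.Modules), (∀ i, SlopeBdd k (N i) M) → SlopeBdd k (⨁ N) M := by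
  haveI := hX.integral
  intro n
  induction n with
  | zero =>
    intro N _
    have hz : IsZero (⨁ N) := (IsZero.iff_id_eq_zero _).2 (biproduct.hom_ext _ _ fun i => i.elim0)
    have hf : IsZero (FlatMod.freeMod X 0) := (IsZero.iff_id_eq_zero _).2 (Sigma.hom_ext _ _ fun i => i.elim0)
    have h0 : FlatMod.IsFinLocFreeOfRank 0 (⨁ N) :=
      isFinLocFreeOfRank_of_iso (hf.iso hz) (isFinLocFreeOfRank_freeMod X 0)
    refine ⟨0, h0, by rw [deg_rank_zero hX.like h0]; simp, fun G r' i hi hr hG => ?_⟩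
    haveI := hi
    have := rank_le_of_mono hX h0 hG i
    omega
  | succ n ih =>
    intro N hN
    let K : Fin 1 ⊕ Fin n → X.Modules := Sum.elim (fun _ => N 0) fun i => N i.succ
    let σ : Fin (n + 1) ≃ Fin 1 ⊕ Fin n :=
      { toFun := Fin.cases (Sum.inl 0) fun i => Sum.inr i
        invFun := Sum.elim (fun _ => 0) Fin.succ
        left_inv := fun i => by cases i using Fin.cases <;> simp
        right_inv := fun s => by
          rcases s with i | i
          · obtain rfl : i = 0 := Subsingleton.elim _ _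
            simp
          · simp }
    have e : (⨁ fun _ : Fin 1 => N 0) ⊞ (⨁ fun i : Fin n => N i.succ) ≅ ⨁ N :=
      biprodBiproductIso K ≪≫ biproduct.whiskerEquiv σ.symm fun s => eqToIso (by rcases s with i | i <;> rfl)
    exact SlopeBdd.of_iso hX e (SlopeBdd.biprod hX
      (SlopeBdd.of_iso hX (biproductUniqueIso fun _ : Fin 1 => N 0).symm (hN 0)) (ih _ fun i => hN i.succ))

/-- Every bundle has bounded slopes. -/
theorem exists_slopeBdd (hX : RegCurve k X) {a : ℕ} {E : X.Modules} (hE : FlatMod.IsFinLocFreeOfRank a E) :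
    ∃ M, SlopeBdd k E M := by
  haveI := hX.integral
  obtain ⟨N, hN⟩ := deg_sub_bdd hX hE
  refine ⟨N.natAbs + (Curv2.deg k X E a).natAbs, a, hE, ?_, fun G r' i hi h0 hG => ?_⟩
  · rcases Nat.eq_zero_or_pos a with rfl | h
    · rw [deg_rank_zero hX.like hE]; simp
    · have h' : (1 : ℤ) ≤ a := by exact_mod_cast h
      have h1 : -((Curv2.deg k X E a).natAbs : ℤ) ≤ Curv2.deg k X E a := by omega
      push_cast at h1 ⊢
      nlinarith [abs_nonneg (Curv2.deg k X E a), abs_nonneg N]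
  · have h' : (1 : ℤ) ≤ r' := by exact_mod_cast h0
    have h1 : N ≤ (N.natAbs : ℤ) := Int.le_natAbs
    push_cast at h1 ⊢
    nlinarith [hN G r' i hi hG, abs_nonneg (Curv2.deg k X E a), abs_nonneg N]

theorem SlopeBdd.mono {E : X.Modules} {M M' : ℕ} (h : M ≤ M') (hE : SlopeBdd k E M) : SlopeBdd k E M' := by
  obtain ⟨a, ha, h1, h2⟩ := hE
  have h' : (M : ℤ) ≤ M' := by exact_mod_cast h
  refine ⟨a, ha, le_trans ?_ h1, fun G r' i hi h0 hG => (h2 G r' i hi h0 hG).trans ?_⟩
  · nlinarith [Int.natCast_nonneg a]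
  · nlinarith [Int.natCast_nonneg r']

/-- All powers of a bundle of finite type have uniformly bounded slopes. -/
theorem exists_slopeBdd_pow (hX : RegCurve k X) {r : ℕ} {E : X.Modules} (hE : FlatMod.IsFinLocFreeOfRank r E)
    (h : FinType fun n => CohB1.tensorPow E n) : ∃ M, ∀ n, SlopeBdd k (CohB1.tensorPow E n) M := by
  classical
  obtain ⟨m, L, hL⟩ := h
  let g : Fin m → ℕ := fun j => if h : ∃ M, SlopeBdd k (L j) M then h.choose else 0
  refine ⟨Finset.univ.sup g, fun n => ?_⟩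
  obtain ⟨s, N, hN, ⟨e⟩⟩ := dec_tensorPow hX hE n
  refine SlopeBdd.of_iso hX e.symm (SlopeBdd.biproduct hX N fun i => ?_)
  have hr := (retr_biproduct N i).trans (Retr.of_iso e.symm)
  obtain ⟨j, ⟨u⟩⟩ := hL n (N i) (hN i) hr
  obtain ⟨a, ha⟩ := exists_rank_retract hX (isFinLocFreeOfRank_tensorPow hE n) hr
  have hj : ∃ M, SlopeBdd k (L j) M := exists_slopeBdd hX (isFinLocFreeOfRank_of_iso u ha)
  refine SlopeBdd.mono ?_ (SlopeBdd.of_iso hX u.symm hj.choose_spec)
  exact le_trans (le_of_eq (by simp only [g, dif_pos hj])) (Finset.le_sup (Finset.mem_univ j))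

theorem deg_tensorPow_mul (hX : RegCurve k X) {r : ℕ} {F : X.Modules} (hF : FlatMod.IsFinLocFreeOfRank r F) :
    ∀ n, Curv2.deg k X (CohB1.tensorPow F n) (r ^ n) * r = n * (r : ℤ) ^ n * Curv2.deg k X F r
  | 0 => by
    rw [pow_zero, show CohB1.tensorPow F 0 = Coh.structureModule X from rfl, deg_structureModule]
    simp
  | n + 1 => by
    have h := hX.like.deg_tensor (isFinLocFreeOfRank_tensorPow hF n) hF
    rw [← pow_succ] at h
    change Curv2.deg k X (CohB1.tensorMod (CohB1.tensorPow F n) F) (r ^ (n + 1)) * r = _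
    rw [h, add_mul, mul_assoc, deg_tensorPow_mul hX hF n]
    push_cast
    ring

theorem mono_tensorR {A B P : X.Modules} (f : A ⟶ B) [Mono f] {p : ℕ} (hP : FlatMod.IsFinLocFreeOfRank p P) :
    Mono (tensorMap f (𝟙 P)) :=
  (shortExact_tensorR (S := ShortComplex.mk f (cokernel.π f) (cokernel.condition _))
    { exact := ShortComplex.exact_of_g_is_cokernel _ (cokernelIsCokernel _) } P (fun x =>
      Module.Flat.of_linearEquiv (nonempty_stalk_equiv hP x).some)).mono_f

/-- Powers of a subbundle embed into powers. -/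
theorem exists_mono_tensorPow {r r' : ℕ} {E F : X.Modules} (hE : FlatMod.IsFinLocFreeOfRank r E)
    (hF : FlatMod.IsFinLocFreeOfRank r' F) (i : F ⟶ E) [Mono i] :
    ∀ n, ∃ j : CohB1.tensorPow F n ⟶ CohB1.tensorPow E n, Mono j
  | 0 => ⟨𝟙 (Coh.structureModule X), show Mono (𝟙 (Coh.structureModule X)) from inferInstance⟩
  | n + 1 => by
    obtain ⟨j, hj⟩ := exists_mono_tensorPow hE hF i n
    haveI := mono_tensorR j hF
    haveI := mono_tensorR i (isFinLocFreeOfRank_tensorPow hE n)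
    let c₁ := tensorComm (CohB1.tensorPow E n) F
    let c₂ := tensorComm E (CohB1.tensorPow E n)
    haveI : IsIso c₁.hom := ⟨c₁.inv, c₁.hom_inv_id, c₁.inv_hom_id⟩
    haveI : IsIso c₂.hom := ⟨c₂.inv, c₂.hom_inv_id, c₂.inv_hom_id⟩
    haveI : Mono c₁.hom := IsSplitMono.mono _
    haveI : Mono c₂.hom := IsSplitMono.mono _
    exact ⟨tensorMap j (𝟙 F) ≫ c₁.hom ≫ tensorMap i (𝟙 (CohB1.tensorPow E n)) ≫ c₂.hom,
      mono_comp' (mono_tensorR j hF) (mono_comp' (IsSplitMono.mono _) (mono_comp' (mono_tensorR i (isFinLocFreeOfRank_tensorPow hE n)) (IsSplitMono.mono _)))⟩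

/-- A Weil finite bundle has degree zero and is semistable. -/
theorem deg_eq_zero_of_finType (hX : RegCurve k X) {r : ℕ} (hr : 0 < r) {E : X.Modules}
    (hE : FlatMod.IsFinLocFreeOfRank r E) (h : FinType fun n => CohB1.tensorPow E n) :
    Curv2.deg k X E r = 0 ∧ ∀ (F : X.Modules) (r' : ℕ) (i : F ⟶ E), Mono i → 0 < r' →
      FlatMod.IsFinLocFreeOfRank r' F → Curv2.deg k X F r' ≤ 0 := by
  haveI := hX.integral
  obtain ⟨M, hM⟩ := exists_slopeBdd_pow hX hE h
  have hsub : ∀ (F : X.Modules) (r' : ℕ) (i : F ⟶ E), Mono i → 0 < r' →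
      FlatMod.IsFinLocFreeOfRank r' F → Curv2.deg k X F r' ≤ 0 := fun F r' i hi h0 hF => by
    haveI := hi
    by_contra hd
    push Not at hd
    let n := M * r' + 1
    obtain ⟨a, -, -, h2⟩ := hM n
    obtain ⟨j, hj⟩ := exists_mono_tensorPow hE hF i n
    have h3 := h2 _ (r' ^ n) j hj (pow_pos h0 n) (isFinLocFreeOfRank_tensorPow hF n)
    have h4 := deg_tensorPow_mul hX hF n
    have hr' : (0 : ℤ) < r' := by exact_mod_cast h0
    have hp : (0 : ℤ) < (r' : ℤ) ^ n := pow_pos hr' n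
    push_cast at h3
    have h5 : (n : ℤ) * (r' : ℤ) ^ n * Curv2.deg k X F r' ≤ (M : ℤ) * r' ^ n * r' :=
      h4 ▸ mul_le_mul_of_nonneg_right h3 hr'.le
    have h6 : (n : ℤ) * Curv2.deg k X F r' ≤ (M : ℤ) * r' := le_of_mul_le_mul_right (by linarith) hp
    have hn : (n : ℤ) = (M : ℤ) * r' + 1 := by simp [n]
    nlinarith
  refine ⟨le_antisymm (hsub E r (𝟙 E) ⟨fun g h w => by simpa using w⟩ hr hE) ?_, hsub⟩
  by_contra hd
  push Not at hd
  let n := M * r + 1
  obtain ⟨a, ha, h1, -⟩ := hM n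
  have e : a = r ^ n := rank_unique ha (isFinLocFreeOfRank_tensorPow hE n)
  rw [e] at h1
  have h4 := deg_tensorPow_mul hX hE n
  have hr' : (0 : ℤ) < r := by exact_mod_cast hr
  have hp : (0 : ℤ) < (r : ℤ) ^ n := pow_pos hr' n
  push_cast at h1
  have h5 : -(M : ℤ) * r ^ n * r ≤ (n : ℤ) * (r : ℤ) ^ n * Curv2.deg k X E r :=
    h4 ▸ mul_le_mul_of_nonneg_right h1 hr'.le
  have h6 : -(M : ℤ) * r ≤ (n : ℤ) * Curv2.deg k X E r := le_of_mul_le_mul_right (by linarith) hp
  have hn : (n : ℤ) = (M : ℤ) * r + 1 := by simp [n]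
  nlinarith

end Groth.Agent.KS17
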