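import Groth.Agent.Lib.KS17.Apps
import Groth.Agent.Lib.MumVan22.IsogVanish
import Groth.Agent.Lib.NumPoly18.Trans

/-!
# Bundles trivialised by finite flat covers
-/

set_option autoImplicit false
set_option linter.style.haveILetI false

universe u

open CategoryTheory CategoryTheory.Limits AlgebraicGeometry

namespace Groth.Agent.KS17

open Groth.Agent Groth.Agent.CurveCoh17

/-- Powers of free modules are free. -/
noncomputable def freePow (Y : Scheme.{u}) (r : ℕ) : ∀ n, CohB1.tensorPow (FlatMod.freeMod Y r) n ≅ FlatMod.freeMod Y (r ^ n)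
  | 0 => (M2.freeModOneIso Y).symm ≪≫ eqToIso (by rw [pow_zero])
  | n + 1 => M2.tensorIso (freePow Y r n) (Iso.refl _) ≪≫ M2.freeModMulIso Y (r ^ n) r ≪≫ eqToIso (by rw [pow_succ])

/-- A bundle trivialised by a finite flat cover in characteristic zero has few summands. -/
theorem finType_of_split (k : Type u) [Field k] [CharZero k] {X Y : Scheme.{u}} [X.Over (Spec (CommRingCat.of k))]
    (f : Y ⟶ X) [IsFinite f] [Flat f] [LocallyOfFinitePresentation f] [Surjective f] (hX : VB17.RegCurve k X) {r : ℕ} {E : X.Modules}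
    (hE : FlatMod.IsFinLocFreeOfRank r E)
    (triv : (Scheme.Modules.pullback f).obj E ≅ FlatMod.freeMod Y r) :
    KS17.FinType (fun n => CohB1.tensorPow E n) := by
  haveI := hX.integral
  haveI := hX.like.noetherian
  obtain ⟨m, hm⟩ := VB17.exists_rank_of_isFinLocFree (isFinLocFree_pushO f)
  have hm0 : m ≠ 0 := fun h => by
    subst h
    obtain ⟨x⟩ := (inferInstance : Nonempty X)
    obtain ⟨y, -⟩ := f.surjective x
    haveI : Subsingleton Γ(Y, (⊤ : Y.Opens)) := ⟨fun a b => by
      have hz := VB17.isZero_of_rank_zero hm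
      exact congrArg (fun φ => φ.app (⊤ : X.Opens) (show Γ(pushO f, ⊤) from a)) (hz.eq_of_src (𝟙 _) 0) |>.trans
        (congrArg (fun φ => φ.app (⊤ : X.Opens) (show Γ(pushO f, ⊤) from b)) (hz.eq_of_src (𝟙 _) 0)).symm⟩
    haveI : Nontrivial Γ(Y, (⊤ : Y.Opens)) := (Y.presheaf.germ ⊤ y trivial).hom.domain_nontrivial
    exact not_subsingleton Γ(Y, (⊤ : Y.Opens)) inferInstance
  let A := RelSpec.QCAlg.directImage f
  have hA : FlatMod.IsFinLocFreeOfRank m A.toModule := M2.isFinLocFreeOfRank_of_iso (MumVan22.directImageIso f) hm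
  have hA' := Trace12.isFinLocFree_of_rank hA
  have hu : IsUnit ((m : Γ(X, ⊤))) := by
    have h := (IsUnit.mk0 (m : k) (Nat.cast_ne_zero.2 hm0)).map (Coh.toGlobal (X ↘ Spec (CommRingCat.of k)))
    rw [map_natCast] at h
    exact h
  obtain ⟨s, hs⟩ := Trace12.exists_section_trace A hA (Trace12.traceHom A hA') (Trace12.isTrace_traceHom A hA') hu
  refine KS17.finType_of_cover (fun _ : Unit => pushO f) (fun _ => KS17.dec_bundle hX m _ hm) fun n M hM hr => ⟨(), ?_⟩
  let P := CohB1.tensorPow E n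
  have hP := M2.isFinLocFree_of_ofRank (KS17.isFinLocFreeOfRank_tensorPow hE n)
  haveI : Coh.IsQCoh P := M2.isQCoh_of_isFinLocFree hP
  haveI := ResDesc11.isIso_proj f P
  let t : (Scheme.Modules.pullback f).obj P ≅ FlatMod.freeMod Y (r ^ n) :=
    M2.pullTensorPowIso f _ _ ≪≫ M2.tensorPowIso triv n ≪≫ freePow Y r n
  haveI : (Scheme.Modules.pushforward f).Additive := inferInstance
  let e : CohB1.tensorMod A.toModule P ≅ ⨁ fun _ : Fin (r ^ n) => pushO f :=
    M2.tensorIso (MumVan22.directImageIso f).symm (Iso.refl P) ≪≫ M2.tensorComm _ _ ≪≫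
      asIso (ResDesc11.proj f P) ≪≫ (Scheme.Modules.pushforward f).mapIso (t ≪≫ (biproduct.isoCoproduct _).symm) ≪≫
      (Scheme.Modules.pushforward f).mapBiproduct _
  have h1 : KS17.Retr (CohB1.tensorMod (Coh.structureModule X) P) (CohB1.tensorMod A.toModule P) :=
    KS17.Retr.map (M2.tensorR P) ⟨s, Trace12.traceHom A hA', hs⟩
  obtain ⟨i, hi⟩ := ((hr.trans ((KS17.Retr.of_iso (M2.tensorLUnit P).symm).trans h1)).trans
    (KS17.Retr.of_iso e)).biproduct hM
  exact hi

end Groth.Agent.KS17
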